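import Mathlib
import Groth.Prelude.Def_Pi1
import Groth.Agent.ProjLib.AffineGlue

/-! Rational sections of integral morphisms over normal integral schemes. -/

set_option autoImplicit false
set_option backward.isDefEq.respectTransparency.types false

universe u

namespace Groth.Agent.NormalExtLib

open CategoryTheory CategoryTheory.Limits AlgebraicGeometry TopologicalSpace

/-- Sections over nonempty affine opens of a normal integral scheme are integrally closed. -/
theorem isIntegrallyClosed_sections {X : Scheme.{u}} [IsIntegral X] (hX : Pi1.IsNormalScheme X)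
    (U : X.Opens) (hU : IsAffineOpen U) [Nonempty U] : IsIntegrallyClosed Γ(X, U) :=
  IsIntegrallyClosed.of_localization_maximal fun p _ hp ↦ by
    let P : PrimeSpectrum Γ(X, U) := ⟨p, hp.isPrime⟩
    obtain ⟨z, hz, hzP⟩ : ∃ (z : X) (hz : z ∈ U), hU.primeIdealOf ⟨z, hz⟩ = P := by
      refine ⟨hU.fromSpec P, hU.range_fromSpec.le (Set.mem_range_self _), ?_⟩
      exact hU.fromSpec.isOpenEmbedding.injective (hU.fromSpec_primeIdealOf _)
    let : Algebra Γ(X, U) (X.presheaf.stalk z) := (X.presheaf.germ U z hz).hom.toAlgebra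
    have hloc := hU.isLocalization_stalk ⟨z, hz⟩
    rw [hzP] at hloc
    have := (hX z).2
    exact IsIntegrallyClosed.of_equiv
      (@IsLocalization.algEquiv Γ(X, U) _ p.primeCompl (X.presheaf.stalk z) _ _ hloc
        (Localization p.primeCompl) _ _ _).toRingEquiv

variable {X X' : Scheme.{u}} [IsIntegral X] (g : X' ⟶ X)

theorem isDominant_fromSpecStalkOfMem (T : X.Opens) (h : genericPoint X ∈ T) :
    IsDominant (T.fromSpecStalkOfMem _ h) := by
  have : IsDominant (T.fromSpecStalkOfMem _ h ≫ T.ι) := by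
    rw [Scheme.Opens.fromSpecStalkOfMem_ι]
    refine ⟨?_⟩
    rw [DenseRange, dense_iff_closure_eq, ← Set.univ_subset_iff]
    intro x _
    have hmem : genericPoint X ∈ Set.range (X.fromSpecStalk (genericPoint X)) := by
      rw [Scheme.range_fromSpecStalk]; exact specializes_rfl
    exact closure_mono (Set.singleton_subset_iff.mpr hmem)
      (specializes_iff_mem_closure.mp (genericPoint_specializes x))
  exact IsDominant.of_comp_of_isOpenImmersion (T.fromSpecStalkOfMem _ h) T.ι

/-- Two morphisms over `X` from an open agree if they agree at the generic point. -/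
theorem ext_of_generic [IsSeparated g] {T : X.Opens} {a b : (T : Scheme.{u}) ⟶ X'} (h : a ≫ g = b ≫ g)
    (hgen : ∀ hη : genericPoint X ∈ T,
      T.fromSpecStalkOfMem _ hη ≫ a = T.fromSpecStalkOfMem _ hη ≫ b) : a = b := by
  by_cases hη : genericPoint X ∈ T
  · have := isDominant_fromSpecStalkOfMem T hη
    exact ext_of_isDominant_of_isSeparated g h (T.fromSpecStalkOfMem _ hη) (hgen hη)
  · have : IsEmpty (T : Scheme.{u}) :=
      ⟨fun x ↦ hη ((genericPoint_specializes x.1).mem_open T.isOpen x.2)⟩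
    exact isInitialOfIsEmpty.hom_ext _ _

theorem exists_affine_lift [IsIntegralHom g] (hX : Pi1.IsNormalScheme X)
    (σ : Spec X.functionField ⟶ X') (hσ : σ ≫ g = X.fromSpecStalk (genericPoint X))
    (V : X.Opens) (hV : IsAffineOpen V) :
    ∃ F : (V : Scheme.{u}) ⟶ X', F ≫ g = V.ι ∧
      ∀ hη : genericPoint X ∈ V, V.fromSpecStalkOfMem _ hη ≫ F = σ := by
  by_cases hη : genericPoint X ∈ V
  swap
  · have : IsEmpty (V : Scheme.{u}) :=
      ⟨fun x ↦ hη ((genericPoint_specializes x.1).mem_open V.isOpen x.2)⟩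
    exact ⟨isInitialOfIsEmpty.to _, isInitialOfIsEmpty.hom_ext _ _, fun h ↦ absurd h hη⟩
  have : Nonempty V := ⟨⟨_, hη⟩⟩
  let hW := hV.preimage g
  have hr : Set.range σ ⊆ Set.range hW.fromSpec := by
    rw [hW.range_fromSpec]
    rintro _ ⟨t, rfl⟩
    show g (σ t) ∈ V
    rw [← Scheme.Hom.comp_apply, hσ]
    have : X.fromSpecStalk (genericPoint X) t ∈ {y | y ⤳ genericPoint X} := by
      rw [← Scheme.range_fromSpecStalk]; exact ⟨t, rfl⟩
    exact (show X.fromSpecStalk (genericPoint X) t ⤳ genericPoint X from this).mem_open V.isOpen hη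
  let ρ : Γ(X', g ⁻¹ᵁ V) ⟶ X.functionField := Spec.preimage (IsOpenImmersion.lift hW.fromSpec σ hr)
  have hρ : Spec.map ρ ≫ hW.fromSpec = σ := by
    rw [Spec.map_preimage, IsOpenImmersion.lift_fac]
  have hgρ : g.app V ≫ ρ = X.presheaf.germ V _ hη := by
    apply Spec.map_injective
    rw [← cancel_mono hV.fromSpec, Spec.map_comp, Category.assoc, Scheme.Hom.app_eq_appLE,
      hV.SpecMap_appLE_fromSpec g hW le_rfl, reassoc_of% hρ, hσ, ← hV.fromSpecStalk_eq_fromSpecStalk hη,
      IsAffineOpen.fromSpecStalk]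
  have := functionField_isFractionRing_of_isAffineOpen X V hV
  have hint := isIntegrallyClosed_sections hX V hV
  have hrange : ∀ b, ∃ a, (X.presheaf.germ V _ hη).hom a = ρ.hom b := by
    intro b
    obtain ⟨q, hq, hqb⟩ := g.isIntegral_app V hV b
    have hx : _root_.IsIntegral Γ(X, V) (ρ.hom b : X.functionField) := by
      refine ⟨q, hq, ?_⟩
      rw [show algebraMap Γ(X, V) X.functionField = ρ.hom.comp (g.app V).hom from
        (congrArg CommRingCat.Hom.hom hgρ).symm, ← Polynomial.hom_eval₂, hqb, map_zero]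
    exact IsIntegrallyClosed.isIntegral_iff.mp hx
  choose θ hθ using hrange
  have hinj : Function.Injective (X.presheaf.germ V _ hη).hom :=
    IsFractionRing.injective Γ(X, V) X.functionField
  let θh : Γ(X', g ⁻¹ᵁ V) ⟶ Γ(X, V) := CommRingCat.ofHom
    { toFun := θ
      map_one' := hinj (by rw [hθ, map_one, map_one])
      map_mul' := fun a b ↦ hinj (by rw [hθ, map_mul, map_mul, hθ, hθ])
      map_zero' := hinj (by rw [hθ, map_zero, map_zero])
      map_add' := fun a b ↦ hinj (by rw [hθ, map_add, map_add, hθ, hθ]) }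
  have hθρ : θh ≫ X.presheaf.germ V _ hη = ρ := CommRingCat.hom_ext (RingHom.ext hθ)
  have hid : g.app V ≫ θh = 𝟙 _ := CommRingCat.hom_ext (RingHom.ext fun a ↦ hinj
    ((hθ _).trans (ConcreteCategory.congr_hom hgρ a)))
  refine ⟨V.toSpecΓ ≫ Spec.map θh ≫ hW.fromSpec, ?_, fun _ ↦ ?_⟩
  · rw [Category.assoc, Category.assoc, ← hV.SpecMap_appLE_fromSpec g hW le_rfl,
      ← Scheme.Hom.app_eq_appLE, ← Spec.map_comp_assoc, hid, Spec.map_id, Category.id_comp,
      hV.toSpecΓ_fromSpec]
  · rw [← Category.assoc, Scheme.Opens.fromSpecStalkOfMem_toSpecΓ, ← Spec.map_comp_assoc, hθρ, hρ]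

theorem exists_section [IsIntegralHom g] (hX : Pi1.IsNormalScheme X) (U : X.Opens) (hU : Dense (U : Set X))
    (s : (U : Scheme.{u}) ⟶ X') (hs : s ≫ g = U.ι) :
    ∃ s' : X ⟶ X', s' ≫ g = 𝟙 X ∧ U.ι ≫ s' = s := by
  obtain ⟨x, hx⟩ : (U : Set X).Nonempty := hU.nonempty
  have hηU : genericPoint X ∈ U := (genericPoint_specializes x).mem_open U.isOpen hx
  let σ := U.fromSpecStalkOfMem _ hηU ≫ s
  have hσ : σ ≫ g = X.fromSpecStalk (genericPoint X) := by
    rw [Category.assoc, hs, Scheme.Opens.fromSpecStalkOfMem_ι]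
  choose F hFg hFη using exists_affine_lift g hX σ hσ
  let F' : ∀ (V : X.Opens), IsAffineOpen V → (((𝟙 X : X ⟶ X) ⁻¹ᵁ V).toScheme ⟶ X') := F
  have lift_res : ∀ (T V : X.Opens) (i : T ≤ V) (hη : genericPoint X ∈ T),
      T.fromSpecStalkOfMem _ hη ≫ X.homOfLE i = V.fromSpecStalkOfMem _ (i hη) := fun T V i hη ↦ by
    rw [← cancel_mono V.ι, Category.assoc, Scheme.homOfLE_ι, Scheme.Opens.fromSpecStalkOfMem_ι,
      Scheme.Opens.fromSpecStalkOfMem_ι]
  obtain ⟨s', hs', -⟩ := ProjLib.existsUnique_glueAffine (𝟙 X) F' (fun V hV r ↦ by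
    show X.homOfLE (X.basicOpen_le r) ≫ F V hV = F (X.basicOpen r) (hV.basicOpen r)
    refine ext_of_generic g ?_ fun hη ↦ ?_
    · rw [Category.assoc, hFg, Scheme.homOfLE_ι, hFg]
    · rw [reassoc_of% (lift_res _ _ (X.basicOpen_le r) hη), hFη, hFη])
  have hsg : s' ≫ g = 𝟙 X := ProjLib.hom_ext_affine (𝟙 X) fun V hV ↦ by
    rw [reassoc_of% (hs' V hV), Category.comp_id]
    exact hFg V hV
  refine ⟨s', hsg, ext_of_generic g (by rw [Category.assoc, hsg, Category.comp_id, hs]) fun hη ↦ ?_⟩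
  obtain ⟨_, ⟨V, hV, rfl⟩, hηV, -⟩ :=
    X.isBasis_affineOpens.exists_subset_of_mem_open (Set.mem_univ (genericPoint X)) isOpen_univ
  rw [← Category.assoc, Scheme.Opens.fromSpecStalkOfMem_ι,
    ← Scheme.Opens.fromSpecStalkOfMem_ι V _ hηV, Category.assoc]
  exact (congrArg _ (hs' V hV)).trans (hFη V hV hηV)

/-- An integral birational morphism onto a normal integral scheme with a rational section. -/
theorem isIso_of_rational_section [IsIntegral X'] [IsIntegralHom g] (hX : Pi1.IsNormalScheme X)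
    (U : X.Opens) (hU : Dense (U : Set X)) (s : (U : Scheme.{u}) ⟶ X') (hs : s ≫ g = U.ι) : IsIso g := by
  obtain ⟨s', hs', -⟩ := exists_section g hX U hU s hs
  have : IsClosedImmersion (s' ≫ g) := by rw [hs']; infer_instance
  have : IsClosedImmersion s' := IsClosedImmersion.of_comp s' g
  have hsη : g (s' (genericPoint X)) = genericPoint X := by
    rw [← Scheme.Hom.comp_apply, hs']; rfl
  have hgη : g (genericPoint X') = genericPoint X := by
    have h := (genericPoint_specializes (s' (genericPoint X))).map g.continuous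
    rw [hsη] at h
    exact (h.antisymm (genericPoint_specializes (g (genericPoint X')))).eq
  have heq : genericPoint X' = s' (genericPoint X) := by
    obtain ⟨_, ⟨V, hV, rfl⟩, hηV, -⟩ :=
      X.isBasis_affineOpens.exists_subset_of_mem_open (Set.mem_univ (genericPoint X)) isOpen_univ
    let hW := hV.preimage g
    have hm : genericPoint X' ∈ g ⁻¹ᵁ V := by show g (genericPoint X') ∈ V; rw [hgη]; exact hηV
    have hm' : s' (genericPoint X) ∈ g ⁻¹ᵁ V := by show g _ ∈ V; rw [hsη]; exact hηV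
    have : Nonempty V := ⟨⟨_, hηV⟩⟩
    have : Nonempty (g ⁻¹ᵁ V : X'.Opens) := ⟨⟨_, hm⟩⟩
    have : IsDomain Γ(X', g ⁻¹ᵁ V) := inferInstance
    let := (g.app V).hom.toAlgebra
    have : Algebra.IsIntegral Γ(X, V) Γ(X', g ⁻¹ᵁ V) := ⟨g.isIntegral_app V hV⟩
    have hbot : ∀ {Z : Scheme.{u}} [IsIntegral Z] (W : Z.Opens) (hW : IsAffineOpen W)
        (h : genericPoint Z ∈ W), (hW.primeIdealOf ⟨genericPoint Z, h⟩).asIdeal = ⊥ := by
      intro Z _ W hW h
      have : Nonempty W := ⟨⟨_, h⟩⟩
      rw [hW.primeIdealOf_genericPoint, genericPoint_eq_bot_of_affine]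
      rfl
    have hq : (hW.primeIdealOf ⟨_, hm'⟩).asIdeal = ⊥ := by
      refine Ideal.eq_bot_of_comap_eq_bot (R := Γ(X, V)) ?_
      have h := IsAffineOpen.comap_primeIdealOf_appLE (f := g) V hV (g ⁻¹ᵁ V) hW le_rfl hm'
      rw [← Scheme.Hom.app_eq_appLE] at h
      refine (congrArg PrimeSpectrum.asIdeal h).trans ?_
      have key : ∀ (z : X) (hz : z ∈ V), z = genericPoint X → (hV.primeIdealOf ⟨z, hz⟩).asIdeal = ⊥ := by
        rintro z hz rfl; exact hbot V hV hz
      exact key _ _ hsη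
    have h2 : hW.primeIdealOf ⟨_, hm⟩ = hW.primeIdealOf ⟨_, hm'⟩ :=
      PrimeSpectrum.ext ((hbot _ hW hm).trans hq.symm)
    have h3 := congrArg hW.fromSpec h2
    rwa [hW.fromSpec_primeIdealOf, hW.fromSpec_primeIdealOf] at h3
  have : Surjective s' := ⟨fun y ↦ (genericPoint_specializes y).mem_closed s'.isClosedEmbedding.isClosed_range
    ⟨_, heq.symm⟩⟩
  have := isIso_of_isClosedImmersion_of_surjective s'
  have : IsIso (s' ≫ g) := by rw [hs']; infer_instance
  exact IsIso.of_isIso_comp_left s' g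

end Groth.Agent.NormalExtLib
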